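import Groth.Agent.Lib.CSAExtra.Basic
import Mathlib.FieldTheory.Galois.Basic
import Mathlib.FieldTheory.PrimitiveElement
import Mathlib.LinearAlgebra.Lagrange
import Mathlib.RingTheory.Norm.Transitivity

set_option autoImplicit false

/-!
# Cyclic algebras
-/

universe u v w w'

open scoped TensorProduct

namespace GrothLib.CyclicAlg

variable {k : Type u} [Field k] {K : Type v} [Field K] [Algebra k K]

section Galois

variable [FiniteDimensional k K] [IsGalois k K] {σ : K ≃ₐ[k] K}

theorem orderOf_gen (hσ : ∀ τ : K ≃ₐ[k] K, τ ∈ Subgroup.zpowers σ) :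
    orderOf σ = Module.finrank k K := by
  rw [← IsGalois.card_aut_eq_finrank, ← Nat.card_zpowers,
    show Subgroup.zpowers σ = ⊤ from eq_top_iff.2 fun g _ => hσ g, Subgroup.card_top]

theorem pow_fin_bijective (hσ : ∀ τ : K ≃ₐ[k] K, τ ∈ Subgroup.zpowers σ) :
    Function.Bijective fun i : Fin (Module.finrank k K) => σ ^ (i : ℕ) := by
  refine (Fintype.bijective_iff_injective_and_card _).2 ⟨fun i j h => ?_, ?_⟩
  · simp only at h
    rw [pow_eq_pow_iff_modEq, orderOf_gen hσ] at h
    exact Fin.ext (Nat.ModEq.eq_of_lt_of_lt h i.2 j.2)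
  · rw [Fintype.card_fin, ← Nat.card_eq_fintype_card, IsGalois.card_aut_eq_finrank]

theorem norm_eq_prod_pow (hσ : ∀ τ : K ≃ₐ[k] K, τ ∈ Subgroup.zpowers σ) (x : K) :
    algebraMap k K (Algebra.norm k x) = ∏ i : Fin (Module.finrank k K), (σ ^ (i : ℕ)) x := by
  rw [Algebra.norm_eq_prod_automorphisms]
  exact ((Equiv.ofBijective _ (pow_fin_bijective hσ)).prod_comp
    (fun τ : K ≃ₐ[k] K => τ x)).symm

theorem norm_eq_prod_range (hσ : ∀ τ : K ≃ₐ[k] K, τ ∈ Subgroup.zpowers σ) (x : K) :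
    algebraMap k K (Algebra.norm k x) =
      ∏ i ∈ Finset.range (Module.finrank k K), (σ ^ i) x := by
  rw [norm_eq_prod_pow hσ, ← Fin.prod_univ_eq_prod_range]

theorem fixed_mem_range (hσ : ∀ τ : K ≃ₐ[k] K, τ ∈ Subgroup.zpowers σ) (x : K) (hx : σ x = x) :
    x ∈ Set.range (algebraMap k K) := by
  rw [IsGalois.mem_range_algebraMap_iff_fixed]
  intro τ
  have : σ ∈ MulAction.stabilizer (K ≃ₐ[k] K) x := hx
  exact (Subgroup.zpowers_le.2 this) (hσ τ)

/-- A point separating the powers of the generator. -/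
theorem exists_separating (hσ : ∀ τ : K ≃ₐ[k] K, τ ∈ Subgroup.zpowers σ) :
    ∃ x : K, Function.Injective fun i : Fin (Module.finrank k K) => (σ ^ (i : ℕ)) x := by
  obtain ⟨x, hx⟩ := Field.exists_primitive_element k K
  refine ⟨x, fun i j h => (pow_fin_bijective hσ).1 ?_⟩
  have h2 : ∀ z : K, (σ ^ (i : ℕ)) z = (σ ^ (j : ℕ)) z := by
    intro z
    have hz : z ∈ (IntermediateField.adjoin k {x} : IntermediateField k K) := by rw [hx]; trivial
    induction hz using IntermediateField.adjoin_induction with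
    | mem y hy => rw [Set.mem_singleton_iff.1 hy]; exact h
    | algebraMap r => rw [AlgEquiv.commutes, AlgEquiv.commutes]
    | add y z _ _ hy hz => rw [map_add, map_add, hy, hz]
    | inv y _ hy => rw [map_inv₀, map_inv₀, hy]
    | mul y z _ _ hy hz => rw [map_mul, map_mul, hy, hz]
  exact AlgEquiv.ext h2

end Galois

variable {B : Type w} [Ring B] [Algebra k B]

/-- The relations of the cyclic algebra `(K, σ, b)`. -/
structure Rel (σ : K ≃ₐ[k] K) (b : kˣ) (ι : K →ₐ[k] B) (y : B) : Prop where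
  pow_eq : y ^ Module.finrank k K = algebraMap k B (b : k)
  comm : ∀ x : K, ι x * y = y * ι (σ x)

/-- `c ↦ ∑ yⁱ cᵢ`. -/
noncomputable def pm (ι : K →ₐ[k] B) (y : B) : (Fin (Module.finrank k K) → K) →ₗ[k] B :=
  ∑ i : Fin (Module.finrank k K), LinearMap.mulLeft k (y ^ (i : ℕ)) ∘ₗ ι.toLinearMap ∘ₗ LinearMap.proj i

variable {σ : K ≃ₐ[k] K} {b : kˣ} {ι : K →ₐ[k] B} {y : B}

theorem pm_apply (c : Fin (Module.finrank k K) → K) :
    pm ι y c = ∑ i : Fin (Module.finrank k K), y ^ (i : ℕ) * ι (c i) := by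
  simp [pm]

theorem pm_single (i : Fin (Module.finrank k K)) (x : K) :
    pm ι y (Pi.single i x) = y ^ (i : ℕ) * ι x := by
  rw [pm_apply, Finset.sum_eq_single i (fun j _ hj => by simp [Pi.single_eq_of_ne hj]) (by simp)]
  simp

namespace Rel

variable (h : Rel σ b ι y)
include h

theorem isUnit [FiniteDimensional k K] : IsUnit y := by
  have hb : IsUnit (y ^ Module.finrank k K) := by
    rw [h.pow_eq]
    exact (Units.isUnit b).map _
  exact (isUnit_pow_iff Module.finrank_pos.ne').1 hb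

theorem comm_pow (x : K) (i : ℕ) : ι x * y ^ i = y ^ i * ι ((σ ^ i) x) := by
  induction i generalizing x with
  | zero => simp
  | succ i ih =>
    rw [pow_succ, ← mul_assoc, ih, mul_assoc, h.comm, ← mul_assoc, pow_succ' σ, AlgEquiv.mul_apply]

theorem mul_single (i j : ℕ) (c d : K) :
    y ^ i * ι c * (y ^ j * ι d) = y ^ (i + j) * ι ((σ ^ j) c * d) := by
  rw [mul_assoc, ← mul_assoc (ι c), h.comm_pow, mul_assoc, ← mul_assoc, ← pow_add, map_mul]

theorem pow_mul_mem [FiniteDimensional k K] (i : ℕ) (c : K) :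
    y ^ i * ι c ∈ LinearMap.range (pm ι y) := by
  have hm : 0 < Module.finrank k K := Module.finrank_pos
  induction i using Nat.strong_induction_on generalizing c with
  | _ i ih =>
    by_cases hi : i < Module.finrank k K
    · exact ⟨Pi.single ⟨i, hi⟩ c, pm_single _ _⟩
    · have := Submodule.smul_mem _ (b : k) (ih (i - Module.finrank k K) (by omega) c)
      rw [← Nat.sub_add_cancel (not_lt.1 hi), pow_add, h.pow_eq, ← Algebra.commutes,
        mul_assoc, ← Algebra.smul_def]
      exact this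

/-- The subalgebra generated by `ι` and `y`. -/
noncomputable def gen [FiniteDimensional k K] : Subalgebra k B :=
  (LinearMap.range (pm ι y)).toSubalgebra
    (by simpa using h.pow_mul_mem 0 1)
    (by
      rintro _ _ ⟨c, rfl⟩ ⟨d, rfl⟩
      rw [pm_apply, pm_apply, Finset.sum_mul_sum]
      refine sum_mem fun i _ => sum_mem fun j _ => ?_
      rw [h.mul_single]
      exact h.pow_mul_mem _ _)

theorem mem_gen [FiniteDimensional k K] {z : B} : z ∈ h.gen ↔ ∃ c, pm ι y c = z := Iff.rfl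

theorem range_le_gen [FiniteDimensional k K] (x : K) : ι x ∈ h.gen := by
  simpa using! h.pow_mul_mem 0 x

theorem y_mem_gen [FiniteDimensional k K] : y ∈ h.gen := by
  simpa using! h.pow_mul_mem 1 1

theorem gen_eq_adjoin [FiniteDimensional k K] :
    h.gen = Algebra.adjoin k (Set.range ι ∪ {y}) := by
  refine le_antisymm ?_ (Algebra.adjoin_le ?_)
  · rintro _ ⟨c, rfl⟩
    rw [pm_apply]
    have hy : y ∈ Algebra.adjoin k (Set.range ι ∪ {y}) :=
      Algebra.subset_adjoin (Or.inr (Set.mem_singleton y))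
    exact sum_mem fun i _ => mul_mem (pow_mem hy _)
      (Algebra.subset_adjoin (Or.inl (Set.mem_range_self _)))
  · rintro z (⟨x, rfl⟩ | rfl)
    · exact h.range_le_gen x
    · exact h.y_mem_gen

/-- Isolating one coordinate by left and right multiplications by `ι K`. -/
theorem proj_mem [FiniteDimensional k K] [IsGalois k K]
    (hσ : ∀ τ : K ≃ₐ[k] K, τ ∈ Subgroup.zpowers σ) (S : AddSubgroup B)
    (hl : ∀ (x : K), ∀ z ∈ S, ι x * z ∈ S) (hr : ∀ (x : K), ∀ z ∈ S, z * ι x ∈ S)
    (c : Fin (Module.finrank k K) → K) (hc : pm ι y c ∈ S) (j : Fin (Module.finrank k K)) :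
    y ^ (j : ℕ) * ι (c j) ∈ S := by
  obtain ⟨x, hx⟩ := exists_separating hσ
  let P := Lagrange.basis Finset.univ (fun i : Fin (Module.finrank k K) => (σ ^ (i : ℕ)) x) j
  have hmem : (P.sum fun n a => ι (x ^ n) * pm ι y c * ι a) ∈ S :=
    sum_mem fun n _ => hr _ _ (hl _ _ hc)
  have heq : (P.sum fun n a => ι (x ^ n) * pm ι y c * ι a) =
      ∑ i : Fin (Module.finrank k K), y ^ (i : ℕ) * ι (c i * P.eval ((σ ^ (i : ℕ)) x)) := by
    simp only [Polynomial.sum, Polynomial.eval_eq_sum, pm_apply, Finset.mul_sum, Finset.sum_mul,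
      map_sum]
    rw [Finset.sum_comm]
    refine Finset.sum_congr rfl fun i _ => Finset.sum_congr rfl fun n _ => ?_
    rw [← mul_assoc, h.comm_pow, map_mul, map_mul, mul_assoc, mul_assoc, map_pow, map_pow]
    simp only [← map_pow, ← map_mul, ← mul_assoc]
    simp only [mul_assoc]
    congr 2
    ring
  rw [heq, Finset.sum_eq_single j] at hmem
  · rwa [Lagrange.eval_basis_self hx.injOn (Finset.mem_univ j), mul_one] at hmem
  · intro i _ hij
    rw [Lagrange.eval_basis_of_ne (v := fun i : Fin (Module.finrank k K) => (σ ^ (i : ℕ)) x)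
      (Ne.symm hij) (Finset.mem_univ i), mul_zero, map_zero, mul_zero]
  · simp

theorem pm_injective [FiniteDimensional k K] [IsGalois k K] [Nontrivial B]
    (hσ : ∀ τ : K ≃ₐ[k] K, τ ∈ Subgroup.zpowers σ) : Function.Injective (pm ι y) := by
  rw [injective_iff_map_eq_zero]
  intro c hc
  funext j
  have := h.proj_mem hσ ⊥ (fun x z hz => by simp [AddSubgroup.mem_bot.1 hz])
    (fun x z hz => by simp [AddSubgroup.mem_bot.1 hz]) c (AddSubgroup.mem_bot.2 hc) j
  rw [AddSubgroup.mem_bot, (h.isUnit.pow _).mul_right_eq_zero] at this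
  exact ι.toRingHom.injective (this.trans (map_zero ι).symm)

theorem finrank_gen [FiniteDimensional k K] [IsGalois k K] [Nontrivial B]
    (hσ : ∀ τ : K ≃ₐ[k] K, τ ∈ Subgroup.zpowers σ) :
    Module.finrank k h.gen = Module.finrank k K ^ 2 := by
  show Module.finrank k (LinearMap.range (pm ι y)) = _
  rw [LinearMap.finrank_range_of_inj (h.pm_injective hσ)]
  simp [Module.finrank_pi_fintype, sq]

theorem pm_surjective_of_finrank [FiniteDimensional k K] [IsGalois k K] [Nontrivial B]
    [FiniteDimensional k B] (hσ : ∀ τ : K ≃ₐ[k] K, τ ∈ Subgroup.zpowers σ)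
    (hd : Module.finrank k B = Module.finrank k K ^ 2) : Function.Surjective (pm ι y) := by
  refine (LinearMap.injective_iff_surjective_of_finrank_eq_finrank ?_).1 (h.pm_injective hσ)
  rw [hd]
  simp [Module.finrank_pi_fintype, sq]

theorem isSimpleRing [FiniteDimensional k K] [IsGalois k K] [Nontrivial B]
    (hσ : ∀ τ : K ≃ₐ[k] K, τ ∈ Subgroup.zpowers σ) (hs : Function.Surjective (pm ι y)) :
    IsSimpleRing B := by
  refine .of_eq_bot_or_eq_top fun I => or_iff_not_imp_left.mpr fun hI => ?_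
  obtain ⟨z, hz, hz0⟩ : ∃ z ∈ I, z ≠ 0 := by
    by_contra hne
    push Not at hne
    exact hI (TwoSidedIdeal.ext fun z => ⟨fun hz => by simpa using hne z hz,
      fun hz => by rw [(TwoSidedIdeal.mem_bot B).1 hz]; exact I.zero_mem⟩)
  obtain ⟨c, rfl⟩ := hs z
  obtain ⟨j, hj⟩ : ∃ j, c j ≠ 0 := by
    by_contra hne
    push Not at hne
    exact hz0 (by rw [show c = 0 from funext hne, map_zero])
  let S : AddSubgroup B :=
    { carrier := {z | z ∈ I}
      zero_mem' := I.zero_mem
      add_mem' := fun hx hy => I.add_mem hx hy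
      neg_mem' := fun hx => I.neg_mem hx }
  have hm : y ^ (j : ℕ) * ι (c j) ∈ I := h.proj_mem hσ S (fun x z hz => I.mul_mem_left _ _ hz)
    (fun x z hz => I.mul_mem_right _ _ hz) c hz j
  have hu : IsUnit (y ^ (j : ℕ) * ι (c j)) :=
    (h.isUnit.pow _).mul ((isUnit_iff_ne_zero.2 hj).map ι)
  rw [← I.one_mem_iff]
  have := I.mul_mem_left ((hu.unit⁻¹ : Bˣ) : B) _ hm
  rwa [IsUnit.val_inv_mul] at this

theorem isCentral [FiniteDimensional k K] [IsGalois k K] [Nontrivial B]
    (hσ : ∀ τ : K ≃ₐ[k] K, τ ∈ Subgroup.zpowers σ) (hs : Function.Surjective (pm ι y)) :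
    Algebra.IsCentral k B := by
  refine ⟨fun z hz => ?_⟩
  rw [Subalgebra.mem_center_iff] at hz
  obtain ⟨c, rfl⟩ := hs z
  obtain ⟨x, hx⟩ := exists_separating hσ
  have h1 : pm ι y (fun i => (σ ^ (i : ℕ)) x * c i) = pm ι y (fun i => c i * x) := by
    have := hz (ι x)
    rw [pm_apply, Finset.mul_sum, Finset.sum_mul] at this
    rw [pm_apply, pm_apply]
    simp only [map_mul, ← mul_assoc] at this ⊢
    simpa [h.comm_pow] using this
  have hm : 0 < Module.finrank k K := Module.finrank_pos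
  have hc : ∀ i : Fin (Module.finrank k K), i ≠ ⟨0, hm⟩ → c i = 0 := by
    intro i hi
    have := congr_fun (h.pm_injective hσ h1) i
    rw [mul_comm (c i), mul_eq_mul_right_iff] at this
    refine this.resolve_left fun h2 => hi (hx ?_)
    simpa using h2
  have hzero : pm ι y c = ι (c ⟨0, hm⟩) := by
    rw [pm_apply, Finset.sum_eq_single (⟨0, hm⟩ : Fin (Module.finrank k K))]
    · simp
    · intro i _ hi
      simp [hc i hi]
    · simp
  rw [hzero]
  have hy := hz y
  rw [hzero, h.comm, h.isUnit.mul_right_inj] at hy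
  obtain ⟨r, hr⟩ := fixed_mem_range hσ _ (ι.toRingHom.injective hy).symm
  rw [← hr, ι.commutes]
  exact Subalgebra.algebraMap_mem _ r

omit h in
theorem map {B' : Type w'} [Ring B'] [Algebra k B'] (h : Rel σ b ι y) (f : B →ₐ[k] B') :
    Rel σ b (f.comp ι) (f y) :=
  ⟨by rw [← map_pow, h.pow_eq, f.commutes],
    fun x => by simp only [AlgHom.comp_apply, ← map_mul, h.comm]⟩

theorem prod {B' : Type w'} [Ring B'] [Algebra k B'] {ι' : K →ₐ[k] B'} {y' : B'}
    (h' : Rel σ b ι' y') : Rel σ b (ι.prod ι') ((y, y') : B × B') :=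
  ⟨Prod.ext h.pow_eq h'.pow_eq, fun x => Prod.ext (h.comm x) (h'.comm x)⟩

/-- The universal property. -/
theorem exists_algHom [FiniteDimensional k K] [IsGalois k K] [Nontrivial B]
    (hσ : ∀ τ : K ≃ₐ[k] K, τ ∈ Subgroup.zpowers σ) (hs : Function.Surjective (pm ι y))
    {B' : Type w'} [Ring B'] [Algebra k B'] [Nontrivial B'] {ι' : K →ₐ[k] B'} {y' : B'}
    (h' : Rel σ b ι' y') :
    ∃ f : B →ₐ[k] B', ∀ c, f (pm ι y c) = pm ι' y' c := by
  have hp := h.prod h'
  let q : hp.gen →ₐ[k] B := (AlgHom.fst k B B').comp hp.gen.val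
  have hpm : ∀ c, pm (ι.prod ι') ((y, y') : B × B') c = (pm ι y c, pm ι' y' c) := by
    intro c
    refine Prod.ext ?_ ?_ <;> simp [pm_apply, Prod.fst_sum, Prod.snd_sum]
  have hq : Function.Bijective q := by
    constructor
    · rintro ⟨_, c, rfl⟩ ⟨_, d, rfl⟩ hcd
      have : pm ι y c = pm ι y d := by simpa [q, hpm] using hcd
      obtain rfl := h.pm_injective hσ this
      rfl
    · intro z
      obtain ⟨c, rfl⟩ := hs z
      exact ⟨⟨_, c, rfl⟩, by simp [q, hpm]⟩
  refine ⟨((AlgHom.snd k B B').comp hp.gen.val).comp (AlgEquiv.ofBijective q hq).symm.toAlgHom,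
    fun c => ?_⟩
  have : (AlgEquiv.ofBijective q hq).symm (pm ι y c) = ⟨_, c, rfl⟩ := by
    rw [AlgEquiv.symm_apply_eq]
    simp [q, hpm]
  simp [this, hpm]

end Rel

end GrothLib.CyclicAlg
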