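import Groth.Agent.Lib.CyclicAlg.Split
import Groth.Prelude.Def_GSzCSA

set_option autoImplicit false

/-!
# Tensor powers of cyclic algebras
-/

universe u v w w'

open scoped TensorProduct

namespace GrothLib.CyclicAlg

variable (k : Type u) [Field k]

/-- The one-fold tensor power. -/
noncomputable def tpowOne (A : Type w) [Ring A] [Algebra k A] : CSAGal.tpow k A 1 ≃ₐ[k] A :=
  AlgEquiv.ofLinearEquiv (PiTensorProduct.subsingletonEquiv (0 : Fin 1))
    (by rw [PiTensorProduct.one_def]; simp)
    (by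
      refine fun x y => ?_
      induction x using PiTensorProduct.induction_on with
      | smul_tprod r f =>
        induction y using PiTensorProduct.induction_on with
        | smul_tprod s g =>
          simp [PiTensorProduct.tprod_mul_tprod, smul_smul]
        | add p q hp hq => simp only [mul_add, map_add, hp, hq]
      | add p q hp hq => simp only [add_mul, map_add, hp, hq])

/-- One by one matrices. -/
noncomputable def matrixOne (A : Type w) [Ring A] [Algebra k A] :
    Matrix (Fin 1) (Fin 1) A ≃ₐ[k] A where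
  toFun M := M 0 0
  invFun a := Matrix.scalar (Fin 1) a
  left_inv M := by ext i j; rw [Subsingleton.elim i 0, Subsingleton.elim j 0]; simp
  right_inv a := by simp
  map_mul' M N := by simp [Matrix.mul_apply]
  map_add' M N := rfl
  commutes' r := by simp [Matrix.algebraMap_matrix_apply]

/-- Adding one factor to a tensor power. -/
noncomputable def tpowSucc (A : Type w) [Ring A] [Algebra k A] (e : ℕ) :
    CSAGal.tpow k A (e + 1) ≃ₐ[k] CSAGal.tpow k A e ⊗[k] A :=
  AlgEquiv.ofLinearEquiv
    (((TensorProduct.congr (LinearEquiv.refl k _)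
        (PiTensorProduct.subsingletonEquiv (R := k) (s := fun _ : Fin 1 => A) 0).symm) ≪≫ₗ
      PiTensorProduct.tmulEquiv k A ≪≫ₗ
      PiTensorProduct.reindex k (fun _ => A) finSumFinEquiv).symm)
    (by
      rw [LinearEquiv.symm_apply_eq, PiTensorProduct.one_def, Algebra.TensorProduct.one_def,
        PiTensorProduct.one_def]
      simp
      congr 1
      funext i
      rcases finSumFinEquiv.symm i with j | j <;> rfl)
    (by
      refine fun x y => ?_
      induction x using PiTensorProduct.induction_on with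
      | smul_tprod r f =>
        induction y using PiTensorProduct.induction_on with
        | smul_tprod s g =>
          simp only [smul_mul_smul_comm, PiTensorProduct.tprod_mul_tprod, map_smul]
          congr 1
          simp [PiTensorProduct.tprod_mul_tprod, Pi.mul_def]
        | add p q hp hq => simp only [mul_add, map_add, hp, hq]
      | add p q hp hq => simp only [add_mul, map_add, hp, hq])

theorem nonempty_matrix_tensor {A : Type w} [Ring A] [Algebra k A] {B : Type w'} [Ring B]
    [Algebra k B] (n : ℕ) :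
    Nonempty (Matrix (Fin n) (Fin n) A ⊗[k] B ≃ₐ[k] Matrix (Fin n) (Fin n) (A ⊗[k] B)) :=
  ⟨(Algebra.TensorProduct.congr (matrixEquivTensor (Fin n) k A) AlgEquiv.refl).trans
    ((Algebra.TensorProduct.assoc k k k A (Matrix (Fin n) (Fin n) k) B).trans
      ((Algebra.TensorProduct.congr AlgEquiv.refl
          (Algebra.TensorProduct.comm k (Matrix (Fin n) (Fin n) k) B)).trans
        ((Algebra.TensorProduct.assoc k k k A B (Matrix (Fin n) (Fin n) k)).symm.trans
          (matrixEquivTensor (Fin n) k (A ⊗[k] B)).symm)))⟩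

variable {k}
variable {K : Type v} [Field K] [Algebra k K] [FiniteDimensional k K] [IsGalois k K]
  {σ : K ≃ₐ[k] K} {b : kˣ}
  {A : Type w} [Ring A] [Algebra k A] {ι : K →ₐ[k] A} {y : A}

/-- Every tensor power of a cyclic algebra is a matrix algebra over the cyclic algebra of the
corresponding power. -/
theorem exists_tpow_equiv (hσ : ∀ τ : K ≃ₐ[k] K, τ ∈ Subgroup.zpowers σ) [Nontrivial A]
    [FiniteDimensional k A] (h : Rel σ b ι y) (hd : Module.finrank k A = Module.finrank k K ^ 2)
    (e : ℕ) :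
    ∃ (C : Type (max u w)) (_ : Ring C) (_ : Algebra k C) (_ : Nontrivial C)
      (_ : FiniteDimensional k C) (ιC : K →ₐ[k] C) (yC : C),
      Rel σ (b ^ (e + 1)) ιC yC ∧ Module.finrank k C = Module.finrank k K ^ 2 ∧
        ∃ n, n ≠ 0 ∧ Nonempty (CSAGal.tpow k A (e + 1) ≃ₐ[k] Matrix (Fin n) (Fin n) C) := by
  induction e with
  | zero =>
    let t : CSAGal.tpow k A 1 ≃ₐ[k] A := tpowOne k A
    have : Nontrivial (CSAGal.tpow k A 1) := t.toEquiv.nontrivial
    have : FiniteDimensional k (CSAGal.tpow k A 1) := Module.Finite.equiv t.toLinearEquiv.symm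
    refine ⟨CSAGal.tpow k A 1, inferInstance, inferInstance, inferInstance, inferInstance,
      t.symm.toAlgHom.comp ι, t.symm y, ?_, ?_, 1, one_ne_zero, ⟨(matrixOne k _).symm⟩⟩
    · rw [zero_add, pow_one]; exact Rel.map h t.symm.toAlgHom
    · rw [t.toLinearEquiv.finrank_eq, hd]
  | succ e ih =>
    obtain ⟨C, _, _, _, _, ιC, yC, hC, hCd, n, hn, ⟨f⟩⟩ := ih
    obtain ⟨D, ιD, yD, hD, hDd, ⟨g⟩⟩ := tensor_equiv hσ hC hCd h hd
    obtain ⟨q⟩ := nonempty_matrix_tensor k (A := C) (B := A) n
    refine ⟨D, inferInstance, inferInstance, inferInstance, inferInstance, ιD, yD, ?_, hDd,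
      n * Module.finrank k K, mul_ne_zero hn Module.finrank_pos.ne', ⟨?_⟩⟩
    · rw [pow_succ]; exact hD
    exact (tpowSucc k A (e + 1)).trans ((Algebra.TensorProduct.congr f AlgEquiv.refl).trans
      (q.trans (g.mapMatrix.trans ((Matrix.compAlgEquiv _ _ D k).trans
        (Matrix.reindexAlgEquiv k D finProdFinEquiv)))))

theorem splits_iff_norm (hσ : ∀ τ : K ≃ₐ[k] K, τ ∈ Subgroup.zpowers σ) [Nontrivial A]
    [FiniteDimensional k A] (h : Rel σ b ι y) (hd : Module.finrank k A = Module.finrank k K ^ 2) :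
    Curves.Splits k A k ↔ ∃ x : K, Algebra.norm k x = (b : k) := by
  constructor
  · rintro ⟨n, hn, ⟨e⟩⟩
    exact exists_norm_of_matrix hσ h hd hn ((Algebra.TensorProduct.lid k A).symm.trans e)
  · rintro ⟨x, hx⟩
    obtain ⟨e⟩ := nonempty_matrix_of_norm hσ h hd x hx
    exact ⟨_, Module.finrank_pos.ne', ⟨(Algebra.TensorProduct.lid k A).trans e⟩⟩

theorem tpow_splits_iff_norm (hσ : ∀ τ : K ≃ₐ[k] K, τ ∈ Subgroup.zpowers σ) [Nontrivial A]
    [FiniteDimensional k A] (h : Rel σ b ι y) (hd : Module.finrank k A = Module.finrank k K ^ 2)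
    (e : ℕ) (he : 0 < e) :
    Curves.Splits k (CSAGal.tpow k A e) k ↔ ∃ x : K, Algebra.norm k x = (b : k) ^ e := by
  obtain ⟨e, rfl⟩ : ∃ e', e = e' + 1 := ⟨e - 1, by omega⟩
  obtain ⟨C, _, _, _, _, ιC, yC, hC, hCd, n, hn, ⟨f⟩⟩ := exists_tpow_equiv hσ h hd e
  have := hC.isSimpleRing hσ (hC.pm_surjective_of_finrank hσ hCd)
  have := hC.isCentral hσ (hC.pm_surjective_of_finrank hσ hCd)
  rw [← Units.val_pow_eq_pow_val, ← splits_iff_norm hσ hC hCd]
  have key : Curves.Splits k (CSAGal.tpow k A (e + 1)) k ↔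
      Curves.Splits k (Matrix (Fin n) (Fin n) C) k := by
    constructor
    · rintro ⟨r, hr, ⟨g⟩⟩
      exact ⟨r, hr, ⟨(Algebra.TensorProduct.congr AlgEquiv.refl f.symm).trans g⟩⟩
    · rintro ⟨r, hr, ⟨g⟩⟩
      exact ⟨r, hr, ⟨(Algebra.TensorProduct.congr AlgEquiv.refl f).trans g⟩⟩
  rw [key]
  exact ⟨CSA.splits_of_matrix n hn, CSA.splits_matrix n hn⟩

end GrothLib.CyclicAlg
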