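import Groth.Agent.Lib.CyclicAlg.Basic
import Mathlib.LinearAlgebra.Matrix.Unique

set_option autoImplicit false

/-!
# Cyclic algebras: splitting, tensor products
-/

universe u v w w'

open scoped TensorProduct

namespace GrothLib.CyclicAlg

variable {k : Type u} [Field k]

/-- A central simple algebra of dimension `m²` with a nonzero left ideal of dimension at most `m`
is a matrix algebra. -/
theorem nonempty_matrix_of_leftIdeal {A : Type w} [Ring A] [Algebra k A] [IsSimpleRing A]
    [FiniteDimensional k A] (m : ℕ) (hA : Module.finrank k A = m ^ 2) (e : A) (he : e ≠ 0)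
    (hle : Module.finrank k (LinearMap.range (LinearMap.mulRight k e)) ≤ m) :
    Nonempty (A ≃ₐ[k] Matrix (Fin m) (Fin m) k) := by
  set V := LinearMap.range (LinearMap.mulRight k e)
  have : Nontrivial V := by
    refine ⟨⟨0, ⟨e, ⟨1, by simp⟩⟩, fun h => he ?_⟩⟩
    exact (congrArg Subtype.val h).symm
  let act : A → V → V := fun a v => ⟨a * v.1, by
    obtain ⟨_, x, rfl⟩ := v
    exact ⟨a * x, by simp [mul_assoc]⟩⟩
  let f : A →ₐ[k] Module.End k V :=
    { toFun := fun a =>
        { toFun := act a
          map_add' := fun x y => Subtype.ext (mul_add _ _ _)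
          map_smul' := fun r x => Subtype.ext (mul_smul_comm r _ _) }
      map_one' := LinearMap.ext fun v => Subtype.ext (one_mul _)
      map_mul' := fun a a' => LinearMap.ext fun v => Subtype.ext (mul_assoc _ _ _)
      map_zero' := LinearMap.ext fun v => Subtype.ext (zero_mul _)
      map_add' := fun a a' => LinearMap.ext fun v => Subtype.ext (add_mul _ _ _)
      commutes' := fun r => LinearMap.ext fun v => Subtype.ext (Algebra.smul_def r v.1).symm }
  have hinj : Function.Injective f := f.toRingHom.injective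
  have hd := LinearMap.finrank_le_finrank_of_injective (f := f.toLinearMap) hinj
  rw [hA, show Module.finrank k (Module.End k V) = Module.finrank k V * Module.finrank k V from
    Module.finrank_linearMap k k V V] at hd
  have hm : Module.finrank k V = m := by
    refine le_antisymm hle ?_
    nlinarith
  have hd' : Module.finrank k A = Module.finrank k (Module.End k V) := by
    rw [show Module.finrank k (Module.End k V) = Module.finrank k V * Module.finrank k V from
      Module.finrank_linearMap k k V V, hm, hA, sq]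
  have hsurj : Function.Surjective f :=
    (@LinearMap.injective_iff_surjective_of_finrank_eq_finrank k A _ _ _ (Module.End k V) _ _ _ _ hd' f.toLinearMap).1 hinj
  exact ⟨(AlgEquiv.ofBijective f ⟨hinj, hsurj⟩).trans
      (algEquivMatrix (Module.finBasisOfFinrankEq k V hm))⟩

variable {K : Type v} [Field K] [Algebra k K] [FiniteDimensional k K] [IsGalois k K]
  {σ : K ≃ₐ[k] K} {b b' : kˣ}
  {A : Type w} [Ring A] [Algebra k A] {ι : K →ₐ[k] A} {y : A}

omit [FiniteDimensional k K] [IsGalois k K] in
theorem mul_pow_eq (h : Rel σ b ι y) (z : K) (n : ℕ) :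
    (y * ι z) ^ n = y ^ n * ι (∏ l ∈ Finset.range n, (σ ^ l) z) := by
  induction n with
  | zero => simp
  | succ n ih =>
    have h1 : (∏ l ∈ Finset.range (n + 1), (σ ^ l) z) =
        (σ ^ n) z * ∏ l ∈ Finset.range n, (σ ^ l) z := by
      rw [Finset.prod_range_succ, mul_comm]
    rw [pow_succ', ih, mul_assoc, ← mul_assoc (ι z), h.comm_pow, h1, pow_succ' y, map_mul ι,
      mul_assoc, mul_assoc]

theorem nonempty_matrix_of_norm (hσ : ∀ τ : K ≃ₐ[k] K, τ ∈ Subgroup.zpowers σ) [Nontrivial A]
    [FiniteDimensional k A] (h : Rel σ b ι y) (hd : Module.finrank k A = Module.finrank k K ^ 2)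
    (x : K) (hx : Algebra.norm k x = (b : k)) :
    Nonempty (A ≃ₐ[k] Matrix (Fin (Module.finrank k K)) (Fin (Module.finrank k K)) k) := by
  have hs := h.pm_surjective_of_finrank hσ hd
  have := h.isSimpleRing hσ hs
  have hm : 0 < Module.finrank k K := Module.finrank_pos
  have hx0 : x ≠ 0 := fun h0 => b.ne_zero (by rw [← hx, h0, Algebra.norm_zero])
  set y' := y * ι x⁻¹ with hy'
  have hpow : y' ^ Module.finrank k K = 1 := by
    rw [hy', mul_pow_eq h, h.pow_eq, ← norm_eq_prod_range hσ, ι.commutes, ← map_mul,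
      Algebra.norm_inv, hx, mul_inv_cancel₀ b.ne_zero, map_one]
  set e := ∑ i : Fin (Module.finrank k K), y' ^ (i : ℕ) with he
  have hye : y' * e = e := by
    have h1 : ∑ i ∈ Finset.range (Module.finrank k K + 1), y' ^ i =
        y' * (∑ i ∈ Finset.range (Module.finrank k K), y' ^ i) + 1 := geom_sum_succ
    rw [Finset.sum_range_succ, hpow, add_left_inj] at h1
    rw [he, Fin.sum_univ_eq_sum_range (fun i => y' ^ i), ← h1]
  have he0 : e ≠ 0 := by
    have : e = pm ι y (fun i : Fin (Module.finrank k K) =>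
        ∏ l ∈ Finset.range (i : ℕ), (σ ^ l) x⁻¹) := by
      rw [pm_apply, he]
      exact Finset.sum_congr rfl fun i _ => mul_pow_eq h _ _
    rw [this]
    intro h0
    have := congr_fun (h.pm_injective hσ (h0.trans (map_zero _).symm)) ⟨0, hm⟩
    simp at this
  let W : K →ₗ[k] A := LinearMap.mulRight k e ∘ₗ ι.toLinearMap
  have hW : ∀ z, z ∈ LinearMap.range W → y * z ∈ LinearMap.range W := by
    rintro _ ⟨c, rfl⟩
    refine ⟨σ.symm (c * x), ?_⟩
    have hy : y = y' * ι x := by
      rw [hy', mul_assoc, ← map_mul, inv_mul_cancel₀ hx0, map_one, mul_one]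
    show ι (σ.symm (c * x)) * e = y * (ι c * e)
    conv_lhs => rw [← hye]
    rw [← mul_assoc, hy', ← mul_assoc, h.comm, AlgEquiv.apply_symm_apply, mul_assoc y, ← map_mul,
      mul_assoc c, mul_inv_cancel₀ hx0, mul_one, mul_assoc]
  have hle : LinearMap.range (LinearMap.mulRight k e) ≤ LinearMap.range W := by
    rintro _ ⟨a, rfl⟩
    obtain ⟨c, rfl⟩ := hs a
    rw [LinearMap.mulRight_apply, pm_apply, Finset.sum_mul]
    refine sum_mem fun i _ => ?_
    rw [mul_assoc]
    induction (i : ℕ) with
    | zero => rw [pow_zero, one_mul]; exact ⟨c i, rfl⟩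
    | succ n ih => rw [pow_succ', mul_assoc]; exact hW _ ih
  exact nonempty_matrix_of_leftIdeal _ hd e he0
    ((Submodule.finrank_mono hle).trans (LinearMap.finrank_range_le W))

theorem exists_norm_of_matrix (hσ : ∀ τ : K ≃ₐ[k] K, τ ∈ Subgroup.zpowers σ)
    (h : Rel σ b ι y) (hd : Module.finrank k A = Module.finrank k K ^ 2)
    {n : ℕ} (hn : n ≠ 0) (e : A ≃ₐ[k] Matrix (Fin n) (Fin n) k) :
    ∃ x : K, Algebra.norm k x = (b : k) := by
  have hm : 0 < Module.finrank k K := Module.finrank_pos
  have hnm : n = Module.finrank k K := by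
    have := e.toLinearEquiv.finrank_eq
    rw [hd, Module.finrank_matrix] at this
    simp only [Fintype.card_fin, Module.finrank_self, mul_one, ← sq] at this
    exact (Nat.pow_left_injective two_ne_zero this).symm
  let f : A →ₐ[k] Module.End k (Fin n → k) :=
    (Matrix.toLinAlgEquiv' (R := k) (n := Fin n)).toAlgHom.comp e.toAlgHom
  have : Nonempty (Fin n) := ⟨⟨0, Nat.pos_of_ne_zero hn⟩⟩
  obtain ⟨v, hv⟩ := exists_ne (0 : Fin n → k)
  let L : K →ₗ[k] (Fin n → k) := LinearMap.applyₗ v ∘ₗ f.toLinearMap ∘ₗ ι.toLinearMap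
  have hL : ∀ c, L c = f (ι c) v := fun c => rfl
  have hinj : Function.Injective L := by
    rw [injective_iff_map_eq_zero]
    intro c hc
    by_contra hc0
    apply hv
    have : f (ι c⁻¹) (L c) = v := by
      rw [hL, ← Module.End.mul_apply, ← map_mul, ← map_mul, inv_mul_cancel₀ hc0, map_one, map_one,
        Module.End.one_apply]
    rw [← this, hc, map_zero]
  have hsurj := (LinearMap.injective_iff_surjective_of_finrank_eq_finrank
    (by rw [Module.finrank_fin_fun, hnm]) (f := L)).1 hinj
  obtain ⟨c, hc⟩ := hsurj (f y v)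
  have hstep : ∀ d, f y (L d) = L (σ.symm d * c) := by
    intro d
    rw [hL, hL, map_mul ι, map_mul f, Module.End.mul_apply, ← hL c, hc, ← Module.End.mul_apply,
      ← Module.End.mul_apply, ← map_mul, ← map_mul, h.comm, AlgEquiv.apply_symm_apply]
  have hpow : ∀ i : ℕ, f (y ^ i) v = L (∏ l ∈ Finset.range i, (σ⁻¹ ^ l) c) := by
    intro i
    induction i with
    | zero => simp [hL]
    | succ i ih =>
      rw [pow_succ', map_mul f, Module.End.mul_apply, ih, hstep, Finset.prod_range_succ', map_prod,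
        pow_zero, AlgEquiv.one_apply]
      congr 2
      refine Finset.prod_congr rfl fun l _ => ?_
      rw [pow_succ', AlgEquiv.mul_apply]
      rfl
  have hσ' : ∀ τ : K ≃ₐ[k] K, τ ∈ Subgroup.zpowers σ⁻¹ := fun τ => by
    rw [Subgroup.zpowers_inv]; exact hσ τ
  refine ⟨c, (algebraMap k K).injective (hinj ?_)⟩
  rw [norm_eq_prod_range hσ', ← hpow, h.pow_eq, hL, ι.commutes]

/-- The idempotents of `K ⊗ K` separated by a generator. -/
theorem exists_separable_idempotents (hσ : ∀ τ : K ≃ₐ[k] K, τ ∈ Subgroup.zpowers σ) :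
    ∃ e : Fin (Module.finrank k K) → K ⊗[k] K,
      (∀ i, e i * e i = e i) ∧ (∀ i j, i ≠ j → e i * e j = 0) ∧ (∀ i, e i ≠ 0) ∧
        ∀ i, Algebra.TensorProduct.map (σ : K →ₐ[k] K) (σ : K →ₐ[k] K) (e i) = e i := by
  let τ : Fin (Module.finrank k K) → (K →ₐ[k] K) := fun i => (σ ^ (i : ℕ) : K ≃ₐ[k] K).toAlgHom
  let ψ : K ⊗[k] K →ₐ[k] (Fin (Module.finrank k K) → K) :=
    AlgHom.pi fun i =>
      Algebra.TensorProduct.lift (AlgHom.id k K) (τ i) (fun _ _ => Commute.all _ _)
  have hψ : ∀ c d i, ψ (c ⊗ₜ d) i = c * (σ ^ (i : ℕ)) d := fun c d i => by simp [ψ, τ]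
  obtain ⟨x, hx⟩ := exists_separating hσ
  let ev : Fin (Module.finrank k K) → Polynomial K →ₐ[k] K := fun i =>
    (Polynomial.aeval ((σ ^ (i : ℕ)) x)).restrictScalars k
  have hsurj : Function.Surjective ψ := by
    intro g
    refine ⟨∑ j, (g j ⊗ₜ[k] (1 : K)) *
      (Lagrange.basis Finset.univ (fun i : Fin (Module.finrank k K) => (σ ^ (i : ℕ)) x) j).sum
        (fun n a => a ⊗ₜ[k] (x ^ n)), ?_⟩
    funext i
    rw [map_sum, Finset.sum_apply, Finset.sum_eq_single i]
    · rw [map_mul, Pi.mul_apply, hψ, map_one, mul_one, Polynomial.sum, map_sum, Finset.sum_apply]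
      simp only [hψ, map_pow]
      rw [← Polynomial.sum_def (f := fun n a => a * (σ ^ (i : ℕ)) x ^ n),
        ← Polynomial.eval_eq_sum, Lagrange.eval_basis_self hx.injOn (Finset.mem_univ i), mul_one]
    · intro j _ hji
      rw [map_mul, Pi.mul_apply, Polynomial.sum, map_sum, Finset.sum_apply]
      simp only [hψ, map_pow]
      rw [← Polynomial.sum_def (f := fun n a => a * (σ ^ (i : ℕ)) x ^ n),
        ← Polynomial.eval_eq_sum,
        Lagrange.eval_basis_of_ne (v := fun i : Fin (Module.finrank k K) => (σ ^ (i : ℕ)) x)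
          hji (Finset.mem_univ i), mul_zero]
    · simp
  have hbij : Function.Bijective ψ := by
    refine ⟨(LinearMap.injective_iff_surjective_of_finrank_eq_finrank ?_
      (f := ψ.toLinearMap)).2 hsurj, hsurj⟩
    rw [Module.finrank_tensorProduct, Module.finrank_pi_fintype]
    simp
  choose e he using fun j : Fin (Module.finrank k K) => hsurj (Pi.single j 1)
  refine ⟨e, fun i => hbij.1 ?_, fun i j hij => hbij.1 ?_, fun i h0 => ?_, fun i => hbij.1 ?_⟩
  · rw [map_mul, he, ← Pi.single_mul, one_mul]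
  · rw [map_mul, he, he, map_zero]
    funext l
    by_cases h : l = i
    · subst h; simp [Pi.single_eq_of_ne hij]
    · simp [Pi.single_eq_of_ne h]
  · have := he i
    rw [h0, map_zero] at this
    simpa using congr_fun this i
  · have key : ∀ z l, ψ (Algebra.TensorProduct.map (σ : K →ₐ[k] K) (σ : K →ₐ[k] K) z) l =
        σ (ψ z l) := by
      intro z l
      induction z using TensorProduct.induction_on with
      | zero => simp
      | tmul c d =>
        rw [Algebra.TensorProduct.map_tmul, hψ, hψ, map_mul, ← AlgEquiv.mul_apply σ (σ ^ (l : ℕ)),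
          ← pow_succ', pow_succ, AlgEquiv.mul_apply]
        rfl
      | add z z' hz hz' => simp only [map_add, Pi.add_apply, hz, hz']
    funext l
    rw [key, he]
    by_cases h : l = i
    · subst h; simp
    · simp [Pi.single_eq_of_ne h]

/-- The product of two cyclic algebras is a matrix algebra over the cyclic algebra of `b * b'`. -/
theorem tensor_equiv (hσ : ∀ τ : K ≃ₐ[k] K, τ ∈ Subgroup.zpowers σ) [Nontrivial A]
    [FiniteDimensional k A] (h : Rel σ b ι y) (hd : Module.finrank k A = Module.finrank k K ^ 2)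
    {A' : Type w'} [Ring A'] [Algebra k A'] [Nontrivial A'] [FiniteDimensional k A']
    {ι' : K →ₐ[k] A'} {y' : A'} (h' : Rel σ b' ι' y')
    (hd' : Module.finrank k A' = Module.finrank k K ^ 2) :
    ∃ (C : Subalgebra k (A ⊗[k] A')) (ιC : K →ₐ[k] C) (yC : C), Rel σ (b * b') ιC yC ∧
      Module.finrank k C = Module.finrank k K ^ 2 ∧
      Nonempty (A ⊗[k] A' ≃ₐ[k]
        Matrix (Fin (Module.finrank k K)) (Fin (Module.finrank k K)) C) := by
  set m := Module.finrank k K with hm
  have hs := h.pm_surjective_of_finrank hσ hd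
  have hs' := h'.pm_surjective_of_finrank hσ hd'
  have := h.isSimpleRing hσ hs
  have := h.isCentral hσ hs
  have := h'.isSimpleRing hσ hs'
  have := h'.isCentral hσ hs'
  have := CSA.isSimpleRing_tensor k A A'
  have := CSA.isCentral_tensor k A A'
  have hm0 : 0 < m := Module.finrank_pos
  let iL : A →ₐ[k] A ⊗[k] A' := Algebra.TensorProduct.includeLeft
  have hT : Rel σ (b * b') (iL.comp ι) (y ⊗ₜ[k] y') := by
    refine ⟨?_, fun x => ?_⟩
    · rw [Algebra.TensorProduct.tmul_pow, h.pow_eq, h'.pow_eq, Units.val_mul, map_mul]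
      simp [Algebra.algebraMap_eq_smul_one,
        TensorProduct.smul_tmul', TensorProduct.tmul_smul, smul_smul, Algebra.TensorProduct.one_def,
        mul_comm]
    · simp [iL, Algebra.TensorProduct.tmul_mul_tmul, h.comm]
  let C := hT.gen
  let ιC : K →ₐ[k] C := (iL.comp ι).codRestrict C fun x => hT.range_le_gen x
  let yC : C := ⟨y ⊗ₜ[k] y', hT.y_mem_gen⟩
  have hC : Rel σ (b * b') ιC yC :=
    ⟨Subtype.ext hT.pow_eq, fun x => Subtype.ext (hT.comm x)⟩
  have hCd : Module.finrank k C = m ^ 2 := hT.finrank_gen hσ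
  have hCs := hC.pm_surjective_of_finrank hσ hCd
  have := hC.isSimpleRing hσ hCs
  have := hC.isCentral hσ hCs
  refine ⟨C, ιC, yC, hC, hCd, ?_⟩
  obtain ⟨hDs, hDd⟩ := CSA.centralizer_theorem C
  set D := Subalgebra.centralizer k (C : Set (A ⊗[k] A')) with hD
  have hDd' : Module.finrank k D = m ^ 2 := by
    rw [Module.finrank_tensorProduct, hd, hd', hCd] at hDd
    exact (Nat.eq_of_mul_eq_mul_left (by positivity) hDd).symm
  let j : K ⊗[k] K →ₐ[k] A ⊗[k] A' := Algebra.TensorProduct.map ι ι'
  have hjinj : Function.Injective j :=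
    TensorProduct.map_injective_of_flat_flat' ι.toLinearMap ι'.toLinearMap
      ι.toRingHom.injective ι'.toRingHom.injective
  have hjy : ∀ z, j z * (y ⊗ₜ[k] y') =
      (y ⊗ₜ[k] y') * j (Algebra.TensorProduct.map (σ : K →ₐ[k] K) (σ : K →ₐ[k] K) z) := by
    intro z
    induction z using TensorProduct.induction_on with
    | zero => simp
    | tmul c d => simp [j, Algebra.TensorProduct.tmul_mul_tmul, h.comm, h'.comm]
    | add z z' hz hz' => simp only [map_add, add_mul, mul_add, hz, hz']
  obtain ⟨e, hee, heo, he0, heσ⟩ := exists_separable_idempotents hσ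
  have hmem : ∀ i, j (e i) ∈ D := by
    intro i
    rw [hD, Subalgebra.mem_centralizer_iff]
    intro g hg
    have hg' : g ∈ Algebra.adjoin k (Set.range (iL.comp ι) ∪ {y ⊗ₜ[k] y'}) := by
      rw [← hT.gen_eq_adjoin]; exact hg
    induction hg' using Algebra.adjoin_induction with
    | mem z hz =>
      rcases hz with ⟨c, rfl⟩ | hz
      · have : iL (ι c) = j (c ⊗ₜ 1) := by simp [j, iL]
        rw [AlgHom.comp_apply, this, ← map_mul, ← map_mul, mul_comm]
      · rw [Set.mem_singleton_iff.1 hz, hjy, heσ]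
    | algebraMap r => rw [Algebra.commutes]
    | add u w _ _ hu hw =>
      rw [add_mul, mul_add, hu (by show _ ∈ hT.gen; rw [hT.gen_eq_adjoin]; assumption),
        hw (by show _ ∈ hT.gen; rw [hT.gen_eq_adjoin]; assumption)]
    | mul u w _ _ hu hw =>
      rw [mul_assoc, hw (by show _ ∈ hT.gen; rw [hT.gen_eq_adjoin]; assumption), ← mul_assoc,
        hu (by show _ ∈ hT.gen; rw [hT.gen_eq_adjoin]; assumption), mul_assoc]
  let E : Fin m → D := fun i => ⟨j (e i), hmem i⟩
  have hEE : ∀ i, E i * E i = E i := fun i => Subtype.ext (by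
    show j (e i) * j (e i) = j (e i)
    rw [← map_mul, hee])
  have hEO : ∀ i l, i ≠ l → E i * E l = 0 := fun i l hil => Subtype.ext (by
    show j (e i) * j (e l) = 0
    rw [← map_mul, heo i l hil, map_zero])
  have hE0 : ∀ i, E i ≠ 0 := fun i h0 =>
    he0 i (hjinj ((congrArg Subtype.val h0).trans (map_zero j).symm))
  let Φ : (Π i, LinearMap.range (LinearMap.mulRight k (E i))) →ₗ[k] D :=
    ∑ i : Fin m, (Submodule.subtype _) ∘ₗ LinearMap.proj i
  have hΦ : Function.Injective Φ := by
    rw [injective_iff_map_eq_zero]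
    intro z hz
    funext i
    have hz' : ∑ l, (z l).1 = 0 := by simpa [Φ] using hz
    have h1 := congrArg (· * E i) hz'
    simp only [Finset.sum_mul, zero_mul] at h1
    rw [Finset.sum_eq_single i] at h1
    · obtain ⟨a, ha⟩ := (z i).2
      refine Subtype.ext ?_
      rw [← ha, LinearMap.mulRight_apply, mul_assoc, hEE] at h1
      rw [← ha, LinearMap.mulRight_apply]
      exact h1
    · intro l _ hl
      obtain ⟨a, ha⟩ := (z l).2
      rw [← ha, LinearMap.mulRight_apply, mul_assoc, hEO l i hl, mul_zero]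
    · simp
  obtain ⟨i, hi⟩ : ∃ i, Module.finrank k (LinearMap.range (LinearMap.mulRight k (E i))) ≤ m := by
    by_contra hne
    push Not at hne
    have h1 := LinearMap.finrank_le_finrank_of_injective hΦ
    rw [Module.finrank_pi_fintype, hDd'] at h1
    have h2 : ∑ _i : Fin m, m < ∑ i : Fin m,
        Module.finrank k (LinearMap.range (LinearMap.mulRight k (E i))) :=
      Finset.sum_lt_sum_of_nonempty ⟨⟨0, hm0⟩, Finset.mem_univ _⟩ fun i _ => hne i
    simp only [Finset.sum_const, Finset.card_univ, Fintype.card_fin, smul_eq_mul, ← sq] at h2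
    omega
  obtain ⟨g⟩ := nonempty_matrix_of_leftIdeal (A := D) m hDd' (E i) (hE0 i) hi
  exact ⟨(AlgEquiv.ofBijective _ (CSA.lift_centralizer_bijective C)).symm.trans
    ((Algebra.TensorProduct.congr AlgEquiv.refl g).trans (matrixEquivTensor (Fin m) k C).symm)⟩

end GrothLib.CyclicAlg
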